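import Mathlib

/-!
# The frontier of the set of elements of norm at most one is covered by finitely many Lipschitz pieces
-/

set_option autoImplicit false
universe u

noncomputable section

open NumberField NumberField.InfinitePlace NumberField.mixedEmbedding NumberField.mixedEmbedding.fundamentalCone
  NumberField.Units NumberField.Units.dirichletUnitTheorem Module

namespace Groth.Agent.H27Dedekind

variable (K : Type u) [Field K] [NumberField K]

open scoped Classical in
/-- The radii, as a function of the parameters; linear in the distinguished coordinate. -/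
def radius (p : realSpace K) (w : InfinitePlace K) : ℝ :=
  p w₀ * Real.exp (∑ i : {w // w ≠ w₀}, p i * Real.log (w (fundSystem K (equivFinRank.symm i))))

variable {K}

open scoped Classical in
theorem radius_eq (p : realSpace K) (w : InfinitePlace K) :
    radius K p w = p w₀ * expMapBasis (fun i => if i = w₀ then 0 else p i) w := by
  rw [expMapBasis_apply', if_pos rfl, Real.exp_zero, one_smul, radius, Real.exp_sum]
  refine congrArg (p w₀ * ·) (Finset.prod_congr rfl fun i _ => ?_)
  rw [if_neg i.2, Real.rpow_def_of_pos, mul_comm]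
  exact pos_iff.2 (by simp)

open scoped Classical in
/-- The point with given signs, parameters and angles. -/
def param (σ : {w : InfinitePlace K // IsReal w} → Bool) (p : realSpace K)
    (θ : {w : InfinitePlace K // IsComplex w} → ℝ) : mixedSpace K :=
  (fun w => (if σ w then 1 else -1) * radius K p w.1,
    fun w => (radius K p w.1 : ℂ) * Complex.exp (((2 * Real.pi * θ w - Real.pi : ℝ) : ℂ) * Complex.I))

open scoped Classical in
theorem exists_param {z : mixedSpace K} {p : realSpace K}
    (h : ∀ w, normAtPlace w z = radius K p w) :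
    ∃ (σ : {w : InfinitePlace K // IsReal w} → Bool) (θ : {w : InfinitePlace K // IsComplex w} → ℝ),
      θ ∈ Set.Icc 0 1 ∧ param σ p θ = z := by
  have hpi := Real.pi_pos
  refine ⟨fun w => decide (0 ≤ z.1 w), fun w => (Complex.arg (z.2 w) + Real.pi) / (2 * Real.pi),
    ⟨fun w => ?_, fun w => ?_⟩, Prod.ext (funext fun w => ?_) (funext fun w => ?_)⟩
  · have := Complex.neg_pi_lt_arg (z.2 w)
    exact div_nonneg (by linarith) (by positivity)
  · have := Complex.arg_le_pi (z.2 w)
    rw [Pi.one_apply, div_le_one (by positivity)]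
    linarith
  · have := h w.1
    rw [normAtPlace_apply_of_isReal w.2] at this
    simp only [param, decide_eq_true_eq, ← this, Real.norm_eq_abs]
    split_ifs with h0
    · rw [one_mul, abs_of_nonneg h0]
    · rw [abs_of_neg (not_le.1 h0)]; ring
  · have := h w.1
    rw [normAtPlace_apply_of_isComplex w.2] at this
    simp only [param, ← this]
    rw [show 2 * Real.pi * ((Complex.arg (z.2 w) + Real.pi) / (2 * Real.pi)) - Real.pi = Complex.arg (z.2 w) by
      field_simp; ring]
    exact Complex.norm_mul_exp_arg_mul_I _

open scoped Classical in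
theorem exists_param_of_mem_frontier {z : mixedSpace K} (hz : z ∈ frontier (normLeOne K)) :
    ∃ (p : realSpace K) (σ : {w : InfinitePlace K // IsReal w} → Bool)
      (θ : {w : InfinitePlace K // IsComplex w} → ℝ) (c : InfinitePlace K),
      p ∈ Set.Icc 0 1 ∧ θ ∈ Set.Icc 0 1 ∧ (p c = 0 ∨ p c = 1) ∧ param σ p θ = z := by
  have hc := closure_normLeOne_subset K hz.1
  obtain ⟨t, ht, _, ⟨v, hv, rfl⟩, htv⟩ := hc
  simp only at htv
  let p : realSpace K := fun i => if i = w₀ then t else v i
  have hpv : (fun i => if i = w₀ then 0 else p i) = v := funext fun i => by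
    by_cases hi : i = w₀
    · have := hv i (Set.mem_univ _)
      simp only [hi, if_pos] at this ⊢
      rw [Set.mem_singleton_iff.1 this]
    · simp [p, hi]
  have hr : ∀ w, normAtPlace w z = radius K p w := fun w => by
    rw [radius_eq, hpv, ← normAtAllPlaces_apply]
    exact (congrFun htv w).symm.trans (by simp [p])
  have hp : p ∈ Set.Icc 0 1 := by
    have hv' : ∀ i, i ≠ w₀ → v i ∈ Set.Icc (0 : ℝ) 1 := fun i hi => by
      have := hv i (Set.mem_univ _); simpa [hi] using this
    constructor <;> intro i <;> by_cases hi : i = w₀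
    · simpa [p, hi] using ht.1
    · simpa [p, hi] using (hv' i hi).1
    · simpa [p, hi] using ht.2
    · simpa [p, hi] using (hv' i hi).2
  obtain ⟨σ, θ, hθ, hz'⟩ := exists_param hr
  refine ⟨p, σ, θ, ?_⟩
  by_contra hne
  push Not at hne
  have hopen : ∀ i, p i ∈ Set.Ioo (0 : ℝ) 1 := fun i => by
    exact ⟨lt_of_le_of_ne (hp.1 i) fun h => hne i hp hθ (Or.inl h.symm) hz',
      lt_of_le_of_ne (hp.2 i) fun h => hne i hp hθ (Or.inr h) hz'⟩
  refine hz.2 (subset_interior_normLeOne K ⟨fun i => if i = w₀ then Real.log (p w₀) else p i, ?_, ?_⟩)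
  · rw [interior_paramSet]
    intro i _
    by_cases hi : i = w₀
    · simp only [hi, if_pos]
      exact Real.log_neg (hopen w₀).1 (hopen w₀).2
    · simp only [hi, if_neg, not_false_eq_true]
      exact hopen i
  · funext w
    rw [normAtAllPlaces_apply, hr, radius_eq, expMapBasis_apply'', if_pos rfl, Real.exp_log (hopen w₀).1,
      Pi.smul_apply, smul_eq_mul]
    refine congrArg (fun x : realSpace K => p w₀ * expMapBasis x w) (funext fun i => ?_)
    by_cases hi : i = w₀ <;> simp [hi]

open scoped Classical in
/-- **The frontier of `normLeOne`** is covered by Lipschitz images of cubes of dimension one less. -/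
theorem exists_frontier_cover (n : ℕ) (hn : finrank ℚ K = n + 1) :
    ∃ (ι : Type u) (_ : Finite ι) (f : ι → (Fin n → ℝ) → mixedSpace K) (L : ι → NNReal),
      (∀ i, LipschitzOnWith (L i) (f i) (Set.Icc 0 1)) ∧
        frontier (normLeOne K) ⊆ ⋃ i, f i '' Set.Icc 0 1 := by
  let J : InfinitePlace K → Type u := fun c => {w // w ≠ c} ⊕ {w : InfinitePlace K // IsComplex w}
  have hJ : ∀ c, Fintype.card (J c) = n := fun c => by
    have h2 := card_add_two_mul_card_eq_rank K
    have h3 := InfinitePlace.card_eq_nrRealPlaces_add_nrComplexPlaces K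
    have h4 := Fintype.card_pos_iff.2 (⟨c⟩ : Nonempty (InfinitePlace K))
    simp only [J, Fintype.card_sum, Fintype.card_subtype_compl, Fintype.card_subtype_eq]
    have h5 : Fintype.card {w : InfinitePlace K // IsComplex w} = nrComplexPlaces K := rfl
    omega
  let e : ∀ c, J c ≃ Fin n := fun c => Fintype.equivFinOfCardEq (hJ c)
  let P : InfinitePlace K → ℝ → (Fin n → ℝ) → realSpace K := fun c a v i =>
    if h : i = c then a else v (e c (Sum.inl ⟨i, h⟩))
  let ι := (InfinitePlace K × Bool) × ({w : InfinitePlace K // IsReal w} → Bool)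
  let f : ι → (Fin n → ℝ) → mixedSpace K := fun i v =>
    param i.2 (P i.1.1 (if i.1.2 then 1 else 0) v) (fun w => v (e i.1.1 (Sum.inr w)))
  have hsmooth : ∀ i, ContDiff ℝ 1 (f i) := fun i => by
    have hP : ∀ w, ContDiff ℝ 1 fun v => P i.1.1 (if i.1.2 then 1 else 0) v w := fun w => by
      by_cases h : w = i.1.1 <;> simp only [P, h, dite_true, dite_false]
      · exact contDiff_const
      · exact contDiff_apply ℝ ℝ _
    have hr : ∀ w, ContDiff ℝ 1 fun v => radius K (P i.1.1 (if i.1.2 then 1 else 0) v) w := fun w =>
      (hP w₀).mul (ContDiff.exp (ContDiff.sum fun j _ => (hP j).mul contDiff_const))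
    refine ContDiff.prodMk (contDiff_pi.2 fun w => ?_) (contDiff_pi.2 fun w => ?_)
    · exact contDiff_const.mul (hr w.1)
    · refine (Complex.ofRealCLM.contDiff.comp (hr w.1)).mul (ContDiff.cexp ?_)
      exact (Complex.ofRealCLM.contDiff.comp
        ((contDiff_const.mul (contDiff_apply ℝ ℝ _)).sub contDiff_const)).mul contDiff_const
  have hlip : ∀ i, ∃ L, LipschitzOnWith L (f i) (Set.Icc 0 1) := fun i =>
    (hsmooth i).locallyLipschitz.locallyLipschitzOn.exists_lipschitzOnWith_of_compact isCompact_Icc
  choose L hL using hlip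
  refine ⟨ι, inferInstance, f, L, hL, fun z hz => ?_⟩
  obtain ⟨p, σ, θ, c, hp, hθ, hpc, rfl⟩ := exists_param_of_mem_frontier hz
  refine Set.mem_iUnion.2 ⟨((c, decide (p c = 1)), σ), fun j => Sum.elim (fun w => p w.1) θ ((e c).symm j), ?_, ?_⟩
  · constructor <;> intro j <;> dsimp only [Pi.zero_apply, Pi.one_apply] <;>
      rcases (e c).symm j with w | w
    · exact hp.1 w.1
    · exact hθ.1 w
    · exact hp.2 w.1
    · exact hθ.2 w
  · simp only [f]
    congr 1
    · funext i
      by_cases h : i = c
      · subst h
        simp only [P, dite_true]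
        rcases hpc with h0 | h1
        · rw [h0]; simp
        · rw [h1]; simp
      · simp [P, h]
    · funext w
      simp

end Groth.Agent.H27Dedekind
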