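import Groth.Agent.H27Dedekind.LatticeCount
import Groth.Agent.H27Dedekind.Frontier
import Mathlib

/-!
# Counting integral ideals with an error term
-/

set_option autoImplicit false
universe u

noncomputable section

open Ideal NumberField NumberField.InfinitePlace NumberField.mixedEmbedding NumberField.mixedEmbedding.fundamentalCone
  NumberField.Units Module Filter Topology
open scoped nonZeroDivisors Pointwise

namespace Groth.Agent.H27Dedekind

variable (K : Type u) [Field K] [NumberField K]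

theorem smul_normLeOne {t : ℝ} (ht : 0 < t) :
    t • normLeOne K = {a | a ∈ fundamentalCone K ∧ mixedEmbedding.norm a ≤ t ^ finrank ℚ K} := by
  ext a
  rw [Set.mem_smul_set_iff_inv_smul_mem₀ ht.ne', mem_normLeOne, smul_mem_iff_mem (inv_ne_zero ht.ne'),
    mixedEmbedding.norm_smul, abs_of_pos (inv_pos.2 ht), inv_pow, inv_mul_le_iff₀ (pow_pos ht _), mul_one]
  rfl

theorem exists_principalCount (J : (Ideal (𝓞 K))⁰) :
    ∃ κ C : ℝ, ∀ y : ℝ, 1 ≤ y →
      |(Nat.card {I : (Ideal (𝓞 K))⁰ // (J : Ideal (𝓞 K)) ∣ I ∧ Submodule.IsPrincipal (I : Ideal (𝓞 K)) ∧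
          absNorm (I : Ideal (𝓞 K)) ≤ y} : ℝ) - κ * y| ≤ C * y ^ (1 - 1 / (finrank ℚ K : ℝ)) := by
  classical
  obtain ⟨n, hn⟩ : ∃ n, finrank ℚ K = n + 1 := ⟨finrank ℚ K - 1, by
    have := finrank_pos (R := ℚ) (M := K); omega⟩
  obtain ⟨ι, hι, f, L, hf, hcov⟩ := exists_frontier_cover n hn
  obtain ⟨C, hC⟩ := exists_latticeCount_bound MeasureTheory.volume
    (mixedEmbedding.idealLattice K (FractionalIdeal.mk0 K J)) (n := n)
    ((mixedEmbedding.finrank K).trans hn) (isBounded_normLeOne K) (measurableSet_normLeOne K) f L hf hcov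
  set v := MeasureTheory.volume.real (normLeOne K) /
    ZLattice.covolume (mixedEmbedding.idealLattice K (FractionalIdeal.mk0 K J))
  refine ⟨v / torsionOrder K, C / torsionOrder K, fun y hy => ?_⟩
  have hd : (0 : ℝ) < (n + 1 : ℕ) := by positivity
  set t : ℝ := y ^ ((n + 1 : ℕ) : ℝ)⁻¹
  have ht : 1 ≤ t := Real.one_le_rpow hy (by positivity)
  have htd : t ^ (n + 1) = y := Real.rpow_inv_natCast_pow (by linarith) (Nat.succ_ne_zero n)
  have htn : t ^ n = y ^ (1 - 1 / (finrank ℚ K : ℝ)) := by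
    rw [hn, ← Real.rpow_natCast, ← Real.rpow_mul (by linarith)]
    congr 1
    push_cast
    field_simp
    ring
  have hcard : Nat.card ↥(t • normLeOne K ∩ (mixedEmbedding.idealLattice K (FractionalIdeal.mk0 K J) :
      Set (mixedSpace K))) = Nat.card {a : idealSet K J // mixedEmbedding.norm (a : mixedSpace K) ≤ y} := by
    refine (Nat.card_congr (Equiv.setCongr ?_)).trans
      (Nat.card_congr (Equiv.subtypeSubtypeEquivSubtypeInter (fun a => a ∈ idealSet K J)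
        fun a => mixedEmbedding.norm a ≤ y).symm)
    ext a
    rw [smul_normLeOne K (by linarith), hn, htd, idealSet]
    exact ⟨fun h => ⟨⟨h.1.1, h.2⟩, h.1.2⟩, fun h => ⟨⟨h.1.1, h.2⟩, h.1.2⟩⟩
  have key := hC t ht
  rw [hcard, ← card_isPrincipal_dvd_norm_le, htd, htn, mul_div_right_comm] at key
  push_cast at key
  have hw : (0 : ℝ) < torsionOrder K := Nat.cast_pos.2 (torsionOrder_pos K)
  rw [div_mul_eq_mul_div C, le_div_iff₀ hw, ← abs_of_pos hw, ← abs_mul, sub_mul, abs_of_pos hw,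
    mul_right_comm, div_mul_cancel₀ _ hw.ne']
  exact key

theorem card_mk0_eq (C : ClassGroup (𝓞 K)) (J : (Ideal (𝓞 K))⁰) (hJ : ClassGroup.mk0 J = C⁻¹) (s : ℝ) :
    Nat.card {I : (Ideal (𝓞 K))⁰ // absNorm (I : Ideal (𝓞 K)) ≤ s ∧ ClassGroup.mk0 I = C}
      = Nat.card {I : (Ideal (𝓞 K))⁰ // (J : Ideal (𝓞 K)) ∣ I ∧ Submodule.IsPrincipal (I : Ideal (𝓞 K)) ∧
        absNorm (I : Ideal (𝓞 K)) ≤ s * absNorm (J : Ideal (𝓞 K))} := by
  simp_rw [← nonZeroDivisors_dvd_iff_dvd_coe]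
  refine Nat.card_congr ?_
  refine ((Equiv.dvd J).subtypeEquiv fun I ↦ ?_).trans
    (Equiv.subtypeSubtypeEquivSubtypeInter (fun I : (Ideal (𝓞 K))⁰ ↦ J ∣ I) _)
  rw [← ClassGroup.mk0_eq_one_iff (SetLike.coe_mem _)]
  simp_rw [Equiv.dvd_apply, Submonoid.coe_mul, ← Submonoid.mul_def, _root_.map_mul, hJ,
    inv_mul_eq_one, Nat.cast_mul, mul_comm s, eq_comm, and_comm, and_congr_left_iff]
  exact fun _ ↦
    (mul_le_mul_iff_of_pos_left (Nat.cast_pos.mpr (absNorm_pos_of_nonZeroDivisors J))).symm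

theorem absNorm_pos' (J : (Ideal (𝓞 K))⁰) : (1 : ℝ) ≤ absNorm (J : Ideal (𝓞 K)) :=
  Nat.one_le_cast.2 (absNorm_pos_of_nonZeroDivisors J)

/-- **Counting ideals**: the error term. -/
theorem exists_idealCount :
    ∃ C : ℝ, ∀ s : ℝ, 1 ≤ s →
      |(Nat.card {I : (Ideal (𝓞 K))⁰ // absNorm (I : Ideal (𝓞 K)) ≤ s} : ℝ) - dedekindZeta_residue K * s| ≤
        C * s ^ (1 - 1 / (finrank ℚ K : ℝ)) := by
  classical
  set e : ℝ := 1 - 1 / (finrank ℚ K : ℝ)
  have hcls : ∀ c : ClassGroup (𝓞 K), ∃ κ C : ℝ, ∀ s : ℝ, 1 ≤ s →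
      |(Nat.card {I : (Ideal (𝓞 K))⁰ // absNorm (I : Ideal (𝓞 K)) ≤ s ∧ ClassGroup.mk0 I = c} : ℝ) - κ * s| ≤
        C * s ^ e := by
    intro c
    obtain ⟨J, hJ⟩ := ClassGroup.mk0_surjective c⁻¹
    obtain ⟨κ, C, h⟩ := exists_principalCount K J
    refine ⟨κ * absNorm (J : Ideal (𝓞 K)), C * (absNorm (J : Ideal (𝓞 K)) : ℝ) ^ e, fun s hs => ?_⟩
    rw [card_mk0_eq K c J hJ, mul_assoc, mul_comm (absNorm (J : Ideal (𝓞 K)) : ℝ)]
    refine (h _ (one_le_mul_of_one_le_of_one_le hs (absNorm_pos' K J))).trans_eq ?_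
    rw [Real.mul_rpow (by linarith) (by linarith [absNorm_pos' K J])]
    ring
  choose κ C hC using hcls
  have hest : ∀ s : ℝ, 1 ≤ s →
      |(Nat.card {I : (Ideal (𝓞 K))⁰ // absNorm (I : Ideal (𝓞 K)) ≤ s} : ℝ) - (∑ c, κ c) * s| ≤
        (∑ c, C c) * s ^ e := by
    intro s hs
    haveI : Finite {I : (Ideal (𝓞 K))⁰ // absNorm (I : Ideal (𝓞 K)) ≤ s} := by
      simp_rw [← Nat.le_floor_iff (show 0 ≤ s by linarith)]
      exact finite_setOfPred_absNorm_le₀ ⌊s⌋₊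
    rw [← Nat.card_congr (Equiv.sigmaFiberEquiv (fun I : {I : (Ideal (𝓞 K))⁰ //
      absNorm (I : Ideal (𝓞 K)) ≤ s} => ClassGroup.mk0 I.1)), Nat.card_sigma, Nat.cast_sum, Finset.sum_mul,
      Finset.sum_mul, ← Finset.sum_sub_distrib]
    refine (Finset.abs_sum_le_sum_abs _ _).trans (Finset.sum_le_sum fun c _ => ?_)
    rw [Nat.card_congr (Equiv.subtypeSubtypeEquivSubtypeInter (fun I : (Ideal (𝓞 K))⁰ =>
      (absNorm (I : Ideal (𝓞 K)) : ℝ) ≤ s) fun I => ClassGroup.mk0 I = c)]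
    exact hC c s hs
  refine ⟨∑ c, C c, ?_⟩
  suffices hκ : ∑ c, κ c = dedekindZeta_residue K by rw [← hκ]; exact hest
  refine tendsto_nhds_unique ?_ (NumberField.Ideal.tendsto_norm_le_div_atTop₀ K)
  have he : e - 1 < 0 := by
    have : (0 : ℝ) < finrank ℚ K := Nat.cast_pos.2 finrank_pos
    have : 0 < 1 / (finrank ℚ K : ℝ) := by positivity
    simp only [e]; linarith
  rw [← tendsto_sub_nhds_zero_iff]
  refine squeeze_zero_norm' (a := fun s : ℝ => (∑ c, C c) * s ^ (e - 1)) ?_ ?_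
  · filter_upwards [eventually_ge_atTop (1 : ℝ)] with s hs
    have hs0 : 0 < s := by linarith
    rw [Real.norm_eq_abs, Real.rpow_sub hs0, Real.rpow_one, ← mul_div_assoc, div_sub' hs0.ne', abs_div,
      abs_of_pos hs0, mul_comm s]
    exact div_le_div_of_nonneg_right (hest s hs) hs0.le
  · have := (tendsto_rpow_neg_atTop (show 0 < 1 - e by linarith)).const_mul (∑ c, C c)
    rw [mul_zero] at this
    simpa [neg_sub] using this

end Groth.Agent.H27Dedekind
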