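import Mathlib

/-!
# Lattice points in a dilated set with Lipschitz-parametrisable frontier
-/

set_option autoImplicit false

noncomputable section

open MeasureTheory Metric Module Submodule
open scoped Pointwise

namespace Groth.Agent.H27Dedekind

theorem exists_mem_frontier_segment {E : Type*} [NormedAddCommGroup E] [NormedSpace ℝ E] {S : Set E}
    {x y : E} (hx : x ∈ S) (hy : y ∉ S) : ∃ z ∈ segment ℝ x y, z ∈ frontier S := by
  by_contra h
  push_neg at h
  have hcov : segment ℝ x y ⊆ interior S ∪ (closure S)ᶜ := fun z hz => by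
    by_cases hzi : z ∈ interior S
    · exact Or.inl hzi
    · exact Or.inr fun hzc => h z hz ⟨hzc, hzi⟩
  have hpc := (convex_segment (𝕜 := ℝ) x y).isPreconnected
  obtain ⟨z, -, hz1, hz2⟩ := hpc (interior S) (closure S)ᶜ isOpen_interior isClosed_closure.isOpen_compl hcov
    ⟨x, left_mem_segment ℝ x y, by_contra fun hxi => h x (left_mem_segment ℝ x y) ⟨subset_closure hx, hxi⟩⟩
    ⟨y, right_mem_segment ℝ x y, fun hyc => h y (right_mem_segment ℝ x y)
      ⟨hyc, fun hyi => hy (interior_subset hyi)⟩⟩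
  exact hz2 (subset_closure (interior_subset hz1))

theorem norm_sub_le_of_mem_segment {E : Type*} [NormedAddCommGroup E] [NormedSpace ℝ E] {x y z : E}
    (hz : z ∈ segment ℝ x y) : ‖z - x‖ ≤ ‖y - x‖ := by
  obtain ⟨a, b, ha, hb, hab, rfl⟩ := hz
  have : a • x + b • y - x = b • (y - x) := by
    rw [show a = 1 - b by linarith, sub_smul, one_smul, smul_sub]; abel
  rw [this, norm_smul, Real.norm_of_nonneg hb]
  exact mul_le_of_le_one_left (norm_nonneg _) (by linarith)

/-- **Lattice points in dilations**: the error is of the order of the boundary. -/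
theorem exists_latticeCount_bound {E : Type*} [NormedAddCommGroup E] [NormedSpace ℝ E] [FiniteDimensional ℝ E]
    [MeasurableSpace E] [BorelSpace E] (μ : Measure E) [Measure.IsAddHaarMeasure μ]
    (L : Submodule ℤ E) [DiscreteTopology L] [IsZLattice ℝ L] {n : ℕ} (hn : finrank ℝ E = n + 1)
    {S : Set E} (hS : Bornology.IsBounded S) (hSm : MeasurableSet S)
    {ι : Type*} [Finite ι] (f : ι → (Fin n → ℝ) → E) (K : ι → NNReal)
    (hf : ∀ i, LipschitzOnWith (K i) (f i) (Set.Icc 0 1))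
    (hfr : frontier S ⊆ ⋃ i, f i '' Set.Icc 0 1) :
    ∃ C : ℝ, ∀ t : ℝ, 1 ≤ t →
      |(Nat.card ↥(t • S ∩ (L : Set E)) : ℝ) - μ.real S * t ^ (n + 1) / ZLattice.covolume L μ| ≤ C * t ^ n := by
  classical
  cases nonempty_fintype ι
  haveI : ProperSpace E := FiniteDimensional.proper ℝ E
  set B := Free.chooseBasis ℤ L
  set b := B.ofZLatticeBasis ℝ L
  have hbL : Submodule.span ℤ (Set.range b) = L := B.ofZLatticeBasis_span ℝ L
  set F := ZSpan.fundamentalDomain b
  have hFm : MeasurableSet F := ZSpan.fundamentalDomain_measurableSet b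
  have hcov : ZLattice.covolume L μ = μ.real F :=
    ZLattice.covolume_eq_measure_fundamentalDomain L μ (ZLattice.isAddFundamentalDomain B μ)
  have hcpos : 0 < ZLattice.covolume L μ := ZLattice.covolume_pos L μ
  obtain ⟨D, hD⟩ := (ZSpan.fundamentalDomain_isBounded b).exists_norm_le
  have hπ : ∀ x : E, ∃! l : L, x - (l : E) ∈ F := by
    intro x
    obtain ⟨⟨v, hv⟩, hv', huniq⟩ := ZSpan.exist_unique_vadd_mem_fundamentalDomain b x
    refine ⟨-(⟨v, hbL ▸ hv⟩ : L), ?_, fun l hl => ?_⟩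
    · change x - -v ∈ F
      rw [sub_neg_eq_add, add_comm]
      exact hv'
    · have hl' : -(l : E) ∈ Submodule.span ℤ (Set.range b) := hbL.symm ▸ neg_mem l.2
      have h := huniq ⟨-(l : E), hl'⟩ (by
        change -(l : E) + x ∈ F
        rw [add_comm, ← sub_eq_add_neg]; exact hl)
      exact Subtype.ext (neg_inj.1 ((congrArg Subtype.val h).trans (neg_neg v).symm))
  choose π hπmem hπuniq using hπ
  have hπd : ∀ x, ‖x - (π x : E)‖ ≤ D := fun x => hD _ (hπmem x)
  have hD0 : 0 ≤ D := (norm_nonneg _).trans (hπd 0)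
  -- finitely many lattice points in balls, uniformly
  have hfinL : ∀ s : Set E, Bornology.IsBounded s → (s ∩ (L : Set E)).Finite := fun s hs => by
    rw [← hbL]; exact ZSpan.setFinite_inter b hs
  set Kt : ℝ := ∑ i, (K i : ℝ)
  have hKt : 0 ≤ Kt := Finset.sum_nonneg fun i _ => NNReal.coe_nonneg _
  set R := Kt + D
  set P := Nat.card ↥(closedBall (0 : E) (R + D) ∩ (L : Set E))
  have hball : ∀ y : E, (closedBall y R ∩ (L : Set E)).ncard ≤ P := by
    intro y
    refine Set.ncard_le_ncard_of_injOn (t := closedBall (0 : E) (R + D) ∩ (L : Set E))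
      (fun l => l - (π y : E)) (fun l hl => ⟨?_, sub_mem hl.2 (π y).2⟩) (fun a _ a' _ h => sub_left_injective h)
      (hfinL _ isBounded_closedBall)
    rw [mem_closedBall_zero_iff]
    calc ‖l - (π y : E)‖ ≤ ‖l - y‖ + ‖y - (π y : E)‖ := norm_sub_le_norm_sub_add_norm_sub _ _ _
      _ ≤ R + D := add_le_add (mem_closedBall_iff_norm.1 hl.1) (hπd y)
  refine ⟨(Fintype.card ι * (3 : ℝ) ^ n * P), fun t ht => ?_⟩
  have ht0 : 0 < t := by linarith
  set N := ⌈t⌉₊
  have hN1 : 1 ≤ N := Nat.ceil_pos.2 ht0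
  have hN3 : ((N + 1 : ℕ) : ℝ) ≤ 3 * t := by
    have := Nat.ceil_lt_add_one ht0.le
    push_cast; linarith
  have htN : t ≤ N := Nat.le_ceil t
  have hSt : Bornology.IsBounded (t • S) := hS.smul₀ t
  set A := (hfinL _ hSt).toFinset
  have hA : ∀ l, l ∈ A ↔ l ∈ t • S ∧ l ∈ L := fun l => by simp [A]
  -- boundary cells
  let grid : ι × (Fin n → Fin (N + 1)) → E := fun p => t • f p.1 (fun j => ((p.2 j : ℕ) : ℝ) / N)
  set Bd : Finset E := Finset.univ.biUnion fun p => (hfinL (closedBall (grid p) R) isBounded_closedBall).toFinset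
  have hBdcard : (Bd.card : ℝ) ≤ Fintype.card ι * (3 : ℝ) ^ n * P * t ^ n := by
    have h1 : Bd.card ≤ Fintype.card (ι × (Fin n → Fin (N + 1))) * P := by
      refine (Finset.card_biUnion_le).trans ((Finset.sum_le_card_nsmul _ _ P fun p _ => ?_).trans_eq (by rw [smul_eq_mul, Finset.card_univ]))
      exact (Set.ncard_eq_toFinset_card _ (hfinL _ isBounded_closedBall)).symm.trans_le (hball _)
    simp only [Fintype.card_prod, Fintype.card_fun, Fintype.card_fin] at h1
    refine (Nat.cast_le.2 h1).trans ?_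
    push_cast
    have h2 : ((N : ℝ) + 1) ^ n ≤ (3 : ℝ) ^ n * t ^ n := by
      rw [← mul_pow]; exact pow_le_pow_left₀ (by positivity) (by exact_mod_cast hN3) n
    calc (Fintype.card ι : ℝ) * ((N : ℝ) + 1) ^ n * P ≤ Fintype.card ι * ((3 : ℝ) ^ n * t ^ n) * P := by gcongr
      _ = _ := by ring
  have hbd : ∀ (l : L) (x : E), x - (l : E) ∈ F → ¬ ((l : E) ∈ t • S ↔ x ∈ t • S) → (l : E) ∈ Bd := by
    intro l x hx hne
    obtain ⟨z, hz, hzf⟩ : ∃ z, ‖z - (l : E)‖ ≤ D ∧ z ∈ frontier (t • S) := by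
      by_cases hl : (l : E) ∈ t • S
      · obtain ⟨z, hz, hzf⟩ := exists_mem_frontier_segment hl (y := x) (fun hxS => hne (iff_of_true hl hxS))
        exact ⟨z, (norm_sub_le_of_mem_segment hz).trans (hD _ hx), hzf⟩
      · have hxS : x ∈ t • S := by_contra fun h => hne (iff_of_false hl h)
        obtain ⟨z, hz, hzf⟩ := exists_mem_frontier_segment hxS hl
        rw [segment_symm] at hz
        exact ⟨z, (norm_sub_le_of_mem_segment hz).trans (hD _ hx), hzf⟩
    rw [show t • S = (Homeomorph.smulOfNeZero t ht0.ne') '' S from rfl, ← Homeomorph.image_frontier] at hzf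
    obtain ⟨w, hw, rfl⟩ := hzf
    obtain ⟨i, hi⟩ := Set.mem_iUnion.1 (hfr hw)
    obtain ⟨v, hv, rfl⟩ := hi
    have hN0 : (0 : ℝ) < N := Nat.cast_pos.2 hN1
    let j : Fin n → Fin (N + 1) := fun k => ⟨⌊v k * N⌋₊, Nat.lt_succ_of_le (Nat.floor_le_of_le (by
      exact mul_le_of_le_one_left hN0.le (hv.2 k)))⟩
    have hjm : (fun k => ((j k : ℕ) : ℝ) / N) ∈ Set.Icc (0 : Fin n → ℝ) 1 := ⟨fun k => by positivity, fun k => by
      rw [Pi.one_apply, div_le_one hN0]; exact Nat.cast_le.2 (Nat.lt_succ_iff.1 (j k).2)⟩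
    have hdist : dist v (fun k => ((j k : ℕ) : ℝ) / N) ≤ 1 / N := by
      rw [dist_pi_le_iff (by positivity)]
      intro k
      have h0 : 0 ≤ v k * N := mul_nonneg (hv.1 k) hN0.le
      have h1 := Nat.floor_le h0
      have h2 := Nat.lt_floor_add_one (v k * N)
      rw [Real.dist_eq, abs_le]
      simp only [j]
      constructor <;> rw [← sub_nonneg]
      · have : v k - (⌊v k * N⌋₊ : ℝ) / N - -(1 / N) = (v k * N - ⌊v k * N⌋₊ + 1) / N := by field_simp; ring
        rw [this]; exact div_nonneg (by linarith) hN0.le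
      · have : 1 / (N : ℝ) - (v k - (⌊v k * N⌋₊ : ℝ) / N) = (⌊v k * N⌋₊ + 1 - v k * N) / N := by field_simp; ring
        rw [this]; exact div_nonneg (by linarith) hN0.le
    refine Finset.mem_biUnion.2 ⟨(i, j), Finset.mem_univ _, ?_⟩
    rw [Set.Finite.mem_toFinset]
    refine ⟨?_, l.2⟩
    rw [mem_closedBall_iff_norm]
    change ‖(l : E) - t • f i _‖ ≤ R
    refine (norm_sub_le_norm_sub_add_norm_sub _ (t • f i v) _).trans ?_
    rw [norm_sub_rev] at hz
    refine (add_le_add (show ‖(l : E) - t • f i v‖ ≤ D from hz) (?_ : _ ≤ Kt)).trans_eq (add_comm D Kt)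
    rw [← smul_sub, norm_smul, Real.norm_of_nonneg ht0.le, ← dist_eq_norm]
    calc t * dist (f i v) (f i _) ≤ t * (K i * (1 / N)) := by
          refine mul_le_mul_of_nonneg_left (((hf i).dist_le_mul v hv _ hjm).trans ?_) ht0.le
          exact mul_le_mul_of_nonneg_left hdist (NNReal.coe_nonneg _)
      _ = (t / N) * K i := by ring
      _ ≤ 1 * K i := mul_le_mul_of_nonneg_right ((div_le_one hN0).2 htN) (NNReal.coe_nonneg _)
      _ ≤ Kt := by
          rw [one_mul]
          exact Finset.single_le_sum (f := fun i => (K i : ℝ)) (fun i _ => NNReal.coe_nonneg _) (Finset.mem_univ i)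
  -- the union of the cells of the lattice points
  let cell : E → Set E := fun l => (fun x => x - l) ⁻¹' F
  have hcm : ∀ l, MeasurableSet (cell l) := fun l => hFm.preimage (measurable_id.sub_const l)
  have hcellμ : ∀ l, μ.real (cell l) = ZLattice.covolume L μ := fun l => by
    rw [hcov, measureReal_def, measureReal_def]
    simp only [cell, sub_eq_add_neg]
    rw [measure_preimage_add_right]
  have hFfin : μ F ≠ ⊤ := (ZSpan.fundamentalDomain_isBounded b).measure_lt_top.ne
  have hcfin : ∀ l, μ (cell l) ≠ ⊤ := fun l => by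
    simp only [cell, sub_eq_add_neg]
    rwa [measure_preimage_add_right]
  have hsub : ∀ G : Finset E, (∀ l ∈ G, l ∈ L) →
      μ.real (⋃ l ∈ G, cell l) = G.card * ZLattice.covolume L μ := fun G hG => by
    rw [measureReal_biUnion_finset (fun l hl l' hl' hne => ?_) (fun l _ => hcm l) fun l _ => hcfin l,
      Finset.sum_congr rfl (fun l _ => hcellμ l), Finset.sum_const, nsmul_eq_mul]
    refine Set.disjoint_left.2 fun x hx hx' => hne ?_
    exact congrArg Subtype.val ((hπuniq x ⟨l, hG l hl⟩ hx).trans (hπuniq x ⟨l', hG l' hl'⟩ hx').symm)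
  have hBdL : ∀ l ∈ Bd, l ∈ L := fun l hl => by
    obtain ⟨p, -, hp⟩ := Finset.mem_biUnion.1 hl
    exact ((Set.Finite.mem_toFinset _).1 hp).2
  have hAL : ∀ l ∈ A, l ∈ L := fun l hl => ((hA l).1 hl).2
  have h1 : t • S ⊆ ⋃ l ∈ A ∪ Bd, cell l := by
    intro x hx
    refine Set.mem_biUnion (x := (π x : E)) ?_ (hπmem x)
    by_cases hl : (π x : E) ∈ t • S
    · exact Finset.mem_union_left _ ((hA _).2 ⟨hl, (π x).2⟩)
    · exact Finset.mem_union_right _ (hbd (π x) x (hπmem x) fun h => hl (h.2 hx))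
  have h2 : (⋃ l ∈ A \ Bd, cell l) ⊆ t • S := by
    intro x hx
    obtain ⟨l, hl, hxl⟩ := Set.mem_iUnion₂.1 hx
    obtain ⟨hlA, hlB⟩ := Finset.mem_sdiff.1 hl
    by_contra hxS
    exact hlB (hbd ⟨l, hAL l hlA⟩ x hxl fun h => hxS (h.1 ((hA l).1 hlA).1))
  have hfinU : ∀ G : Finset E, μ (⋃ l ∈ G, cell l) ≠ ⊤ := fun G =>
    ((measure_biUnion_finset_le G cell).trans_lt (ENNReal.sum_lt_top.2 fun l _ => (hcfin l).lt_top)).ne
  have hup := measureReal_mono h1 (hfinU _)
  have hlow := measureReal_mono h2 (hSt.measure_lt_top (μ := μ)).ne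
  rw [hsub _ (fun l hl => (Finset.mem_union.1 hl).elim (hAL l) (hBdL l))] at hup
  rw [hsub _ (fun l hl => hAL l (Finset.mem_sdiff.1 hl).1)] at hlow
  have hvol : μ.real (t • S) = t ^ (n + 1) * μ.real S := by
    rw [measureReal_def, measureReal_def, Measure.addHaar_smul_of_nonneg μ ht0.le, hn, ENNReal.toReal_mul,
      ENNReal.toReal_ofReal (by positivity)]
  rw [hvol] at hup hlow
  have hcard : Nat.card ↥(t • S ∩ (L : Set E)) = A.card := Nat.card_eq_card_finite_toFinset (hfinL _ hSt)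
  have hu : ((A ∪ Bd).card : ℝ) ≤ A.card + Bd.card := by exact_mod_cast Finset.card_union_le A Bd
  have hl : (A.card : ℝ) - Bd.card ≤ ((A \ Bd).card : ℝ) := by
    rw [sub_le_iff_le_add]; exact_mod_cast Finset.card_le_card_sdiff_add_card
  rw [hcard]
  refine le_trans (abs_le.2 ⟨?_, ?_⟩) hBdcard
  · rw [neg_le_sub_iff_le_add, div_le_iff₀ hcpos]
    nlinarith
  · rw [sub_le_iff_le_add, ← sub_le_iff_le_add', le_div_iff₀ hcpos]
    nlinarith

end Groth.Agent.H27Dedekind
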