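import Groth.Agent.H27Dedekind.IdealCount
import Mathlib

/-!
# The Dedekind zeta function slightly to the left of one
-/

set_option autoImplicit false
universe u

noncomputable section

open Filter Topology Ideal NumberField Module Finset
open scoped nonZeroDivisors

namespace Groth.Agent.H27Dedekind

theorem norm_cpow_sub_succ_le (s : ℂ) (hs : 0 < s.re) (n : ℕ) (hn : 1 ≤ n) :
    ‖(n : ℂ) ^ (-s) - ((n + 1 : ℕ) : ℂ) ^ (-s)‖ ≤ ‖s‖ * (n : ℝ) ^ (-s.re - 1) := by
  have hs0 : -s ≠ 0 := fun h => hs.ne' (by rw [neg_eq_zero.1 h]; simp)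
  have hn0 : (0 : ℝ) < n := Nat.cast_pos.2 hn
  have h := (convex_Icc (n : ℝ) (n + 1)).norm_image_sub_le_of_norm_hasDerivWithin_le
    (f := fun y : ℝ => (y : ℂ) ^ (-s)) (f' := fun y : ℝ => -s * (y : ℂ) ^ (-s - 1))
    (C := ‖s‖ * (n : ℝ) ^ (-s.re - 1))
    (fun y hy => (hasDerivAt_ofReal_cpow_const (by linarith [hy.1] : y ≠ 0) hs0).hasDerivWithinAt)
    (fun y hy => ?_) (Set.right_mem_Icc.2 (by linarith)) (Set.left_mem_Icc.2 (by linarith))
  · simpa using h
  · rw [norm_mul, norm_neg, Complex.norm_cpow_eq_rpow_re_of_pos (by linarith [hy.1])]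
    refine mul_le_mul_of_nonneg_left ?_ (norm_nonneg _)
    simp only [Complex.sub_re, Complex.neg_re, Complex.one_re]
    exact Real.rpow_le_rpow_of_nonpos hn0 hy.1 (by linarith)

/-- Summation by parts. -/
theorem sum_term_eq (b : ℕ → ℂ) (hb : b 0 = 0) (s : ℂ) (hs : s ≠ 0) (N : ℕ) :
    ∑ k ∈ range (N + 1), LSeries.term b s k = (∑ k ∈ range (N + 1), b k) * ((N + 1 : ℕ) : ℂ) ^ (-s) +
      ∑ n ∈ range (N + 1), (∑ k ∈ range (n + 1), b k) * ((n : ℂ) ^ (-s) - ((n + 1 : ℕ) : ℂ) ^ (-s)) := by
  induction N with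
  | zero => simp [hb]
  | succ N ih =>
    rw [sum_range_succ _ (N + 1), ih]
    simp only [sum_range_succ _ (N + 1)]
    rw [LSeries.term_of_ne_zero (Nat.succ_ne_zero N), div_eq_mul_inv, ← Complex.cpow_neg]
    ring

variable (K : Type u) [Field K] [NumberField K]

/-- **Continuation of the Dedekind zeta function**. -/
theorem exists_continuation :
    ∃ δ : ℝ, 0 < δ ∧ δ ≤ 1 ∧ ∃ G : ℂ → ℂ, DifferentiableOn ℂ G {s | 1 - δ < s.re} ∧ G 1 ≠ 0 ∧
      ∀ s : ℂ, 1 < s.re → NumberField.dedekindZeta K s = G s / (s - 1) := by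
  classical
  obtain ⟨C, hC⟩ := exists_idealCount K
  set δ : ℝ := 1 / (finrank ℚ K : ℝ)
  have hd1 : (1 : ℝ) ≤ finrank ℚ K := Nat.one_le_cast.2 finrank_pos
  have hδ0 : 0 < δ := by positivity
  have hδ1 : δ ≤ 1 := by simp only [δ]; rw [div_le_one (by linarith)]; exact hd1
  set κ : ℝ := dedekindZeta_residue K
  let a : ℕ → ℕ := fun n => Nat.card {I : Ideal (𝓞 K) // absNorm I = n}
  let b : ℕ → ℂ := fun n => if n = 0 then 0 else (a n : ℂ) - κ
  let B : ℕ → ℂ := fun n => ∑ k ∈ range (n + 1), b k
  have hsumA : ∀ n : ℕ, (∑ k ∈ Finset.Icc 1 n, a k) =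
      Nat.card {I : (Ideal (𝓞 K))⁰ // (absNorm (I : Ideal (𝓞 K)) : ℝ) ≤ n} := by
    intro n
    simp only [Nat.cast_le, a]
    rw [← add_left_inj 1, ← card_norm_le_eq_card_norm_le_add_one,
      show Finset.Icc 1 n = Finset.Ioc 0 n from Finset.Icc_succ_left_eq_Ioc _ _,
      show 1 = Nat.card {I : Ideal (𝓞 K) // absNorm I = 0} by simp [Ideal.absNorm_eq_zero_iff],
      Finset.sum_Ioc_add_eq_sum_Icc (n.zero_le),
      ← Finset.card_preimage_eq_sum_card_image_eq (fun k _ ↦ finite_setOfPred_absNorm_eq k)]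
    simp [Set.coe_eq_subtype]
  have hB : ∀ n, ‖B n‖ ≤ C * (n : ℝ) ^ (1 - δ) ∨ (n = 0 ∧ B n = 0) := by
    intro n
    rcases Nat.eq_zero_or_pos n with rfl | hn
    · exact Or.inr ⟨rfl, by simp [B, b]⟩
    · left
      have : B n = ((((∑ k ∈ Finset.Icc 1 n, a k : ℕ) : ℝ) - κ * n : ℝ) : ℂ) := by
        have h1 : range (n + 1) = insert 0 (Finset.Icc 1 n) := by ext; simp; omega
        simp only [B]
        rw [h1, sum_insert (by simp), show b 0 = 0 from rfl, zero_add,
          sum_congr rfl (g := fun k => (a k : ℂ) - κ) (fun k hk => if_neg (by simp at hk; omega)),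
          sum_sub_distrib, sum_const, Nat.card_Icc, nsmul_eq_mul]
        push_cast
        ring
      rw [this, Complex.norm_real, Real.norm_eq_abs, hsumA]
      exact hC n (Nat.one_le_cast.2 hn)
  have hC0 : 0 ≤ C := by
    rcases hB 1 with h | ⟨h, -⟩
    · exact le_trans (norm_nonneg _) (by simpa using h)
    · exact absurd h one_ne_zero
  let F : ℕ → ℂ → ℂ := fun n s => B n * ((n : ℂ) ^ (-s) - ((n + 1 : ℕ) : ℂ) ^ (-s))
  have hbound : ∀ (n : ℕ) (s : ℂ), 0 < s.re → ‖F n s‖ ≤ C * ‖s‖ * (n : ℝ) ^ (-s.re - δ) := by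
    intro n s hs
    rcases Nat.eq_zero_or_pos n with rfl | hn
    · simp only [F, show B 0 = 0 by simp [B, b], zero_mul, norm_zero]
      positivity
    · rcases hB n with h | ⟨h, -⟩
      · simp only [F, norm_mul]
        refine (mul_le_mul h (norm_cpow_sub_succ_le s hs n hn) (norm_nonneg _) (by positivity)).trans_eq ?_
        rw [show -s.re - δ = (1 - δ) + (-s.re - 1) by ring, Real.rpow_add (Nat.cast_pos.2 hn)]
        ring
      · omega
  let U : Set ℂ := {s | 1 - δ < s.re}
  have hU : IsOpen U := isOpen_lt continuous_const Complex.continuous_re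
  have hH : DifferentiableOn ℂ (fun s => ∑' n, F n s) U := by
    intro s₀ hs₀
    have hs₀' : 1 - δ < s₀.re := hs₀
    set σ₀ := (1 - δ + s₀.re) / 2
    set R := ‖s₀‖ + 1
    let V : Set ℂ := {s | σ₀ < s.re} ∩ Metric.ball 0 R
    have hV : IsOpen V := (isOpen_lt continuous_const Complex.continuous_re).inter Metric.isOpen_ball
    have hmem : s₀ ∈ V := ⟨by
      show σ₀ < s₀.re
      simp only [σ₀]; linarith, by simp [R]⟩
    have hdiff : DifferentiableOn ℂ (fun s => ∑' n, F n s) V := by
      refine Complex.differentiableOn_tsum_of_summable_norm (u := fun n : ℕ => C * R * (n : ℝ) ^ (-σ₀ - δ))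
        ((Real.summable_nat_rpow.2 (by simp only [σ₀]; linarith)).mul_left _) (fun n => ?_) hV fun n s hs => ?_
      · intro s hs
        rcases Nat.eq_zero_or_pos n with rfl | hn
        · simp only [F, show B 0 = 0 by simp [B, b], zero_mul]
          exact differentiableWithinAt_const _
        · refine (DifferentiableAt.const_mul ?_ _).differentiableWithinAt
          exact (differentiableAt_id.neg.const_cpow (Or.inl (Nat.cast_ne_zero.2 hn.ne'))).sub
            (differentiableAt_id.neg.const_cpow (Or.inl (Nat.cast_ne_zero.2 (Nat.succ_ne_zero n))))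
      · have hsσ : σ₀ < s.re := hs.1
        have hσ₀ : 0 < σ₀ := by simp only [σ₀]; linarith
        refine (hbound n s (hσ₀.trans hsσ)).trans ?_
        rcases Nat.eq_zero_or_pos n with rfl | hn
        · rw [Nat.cast_zero, Real.zero_rpow (by linarith), mul_zero]
          exact mul_nonneg (mul_nonneg hC0 (by positivity)) (Real.rpow_nonneg le_rfl _)
        · gcongr
          · exact (mem_ball_zero_iff.1 hs.2).le
          · exact Nat.one_le_cast.2 hn
    exact (hdiff.differentiableAt (hV.mem_nhds hmem)).differentiableWithinAt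
  have hLb : ∀ s : ℂ, 1 < s.re → NumberField.dedekindZeta K s = κ * riemannZeta s + ∑' n, F n s := by
    intro s hs
    have hs0 : s ≠ 0 := fun h => by rw [h] at hs; norm_num at hs
    have hasum : LSeriesSummable (fun n => (a n : ℂ)) s := by
      refine LSeriesSummable_of_sum_norm_bigO_and_nonneg (f := fun n => (a n : ℝ)) ?_ (fun n => Nat.cast_nonneg _)
        zero_le_one hs
      refine Asymptotics.IsBigO.of_bound (C + |κ|) ?_
      filter_upwards [eventually_ge_atTop 1] with n hn
      rw [Real.rpow_one, Real.norm_eq_abs, Real.norm_of_nonneg (Nat.cast_nonneg n)]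
      have h := hC n (Nat.one_le_cast.2 hn)
      rw [← hsumA] at h
      push_cast at h ⊢
      have hn1 : (1 : ℝ) ≤ n := Nat.one_le_cast.2 hn
      have hpow : (n : ℝ) ^ (1 - δ) ≤ n := Real.rpow_le_self_of_one_le hn1 (by linarith)
      calc |∑ k ∈ Finset.Icc 1 n, (a k : ℝ)| = |((∑ k ∈ Finset.Icc 1 n, (a k : ℝ)) - κ * n) + κ * n| := by ring_nf
        _ ≤ |(∑ k ∈ Finset.Icc 1 n, (a k : ℝ)) - κ * n| + |κ * n| := abs_add_le _ _
        _ ≤ C * n + |κ| * n := add_le_add (h.trans (mul_le_mul_of_nonneg_left hpow hC0))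
              (by rw [abs_mul, Nat.abs_cast])
        _ = _ := by ring
    have h1sum : LSeriesSummable 1 s := LSeriesSummable_one_iff.2 hs
    have hterm : ∀ n, LSeries.term b s n =
        LSeries.term (fun n => (a n : ℂ)) s n - (κ : ℂ) * LSeries.term 1 s n := fun n => by
      rcases Nat.eq_zero_or_pos n with rfl | hn
      · simp
      · simp only [LSeries.term_of_ne_zero hn.ne', b, if_neg hn.ne', Pi.one_apply]; ring
    have hbsum : HasSum (LSeries.term b s) (NumberField.dedekindZeta K s - κ * riemannZeta s) := by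
      rw [funext hterm, ← LSeries_one_eq_riemannZeta hs]
      exact hasum.hasSum.sub (h1sum.hasSum.mul_left _)
    have hFsum : Summable fun n => F n s := by
      refine Summable.of_norm_bounded ((Real.summable_nat_rpow.2 ?_).mul_left (C * ‖s‖))
        fun n => hbound n s (by linarith)
      linarith
    have hzero : Tendsto (fun N : ℕ => B N * ((N + 1 : ℕ) : ℂ) ^ (-s)) atTop (𝓝 0) := by
      refine squeeze_zero_norm' (a := fun N : ℕ => C * (N : ℝ) ^ (1 - δ - s.re)) ?_ ?_
      · filter_upwards [eventually_ge_atTop 1] with N hN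
        rcases hB N with h | ⟨h, -⟩
        · rw [norm_mul, Complex.norm_natCast_cpow_of_pos (Nat.succ_pos N), Complex.neg_re]
          refine (mul_le_mul h (Real.rpow_le_rpow_of_nonpos (Nat.cast_pos.2 hN)
            (Nat.cast_le.2 (Nat.le_succ N)) (by linarith)) (by positivity) (by positivity)).trans_eq ?_
          rw [mul_assoc, ← Real.rpow_add (Nat.cast_pos.2 hN)]
          ring_nf
        · omega
      · have := ((tendsto_rpow_neg_atTop (show 0 < s.re - (1 - δ) by linarith)).comp
          tendsto_natCast_atTop_atTop).const_mul C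
        rw [mul_zero] at this
        simpa [neg_sub] using this
    have hlim := (hbsum.tendsto_sum_nat.comp (tendsto_add_atTop_nat 1))
    have hlim2 : Tendsto (fun N => ∑ k ∈ range (N + 1), LSeries.term b s k) atTop (𝓝 (∑' n, F n s)) := by
      simp_rw [sum_term_eq b (if_pos rfl) s hs0]
      simpa [B, F] using hzero.add (hFsum.hasSum.tendsto_sum_nat.comp (tendsto_add_atTop_nat 1))
    rw [← tendsto_nhds_unique hlim hlim2]
    ring
  -- clear the pole
  let G₀ : ℂ → ℂ := fun s => (s - 1) * (κ * riemannZeta s + ∑' n, F n s)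
  let G : ℂ → ℂ := Function.update G₀ 1 κ
  have h1U : (1 : ℂ) ∈ U := by show 1 - δ < (1 : ℂ).re; simp; linarith
  have hdne : ∀ s ∈ U, s ≠ 1 → DifferentiableAt ℂ G s := by
    intro s hs hne
    refine DifferentiableAt.congr_of_eventuallyEq (f₁ := G) (f := G₀) ?_ ?_
    · exact (differentiableAt_id.sub_const 1).mul
        (((differentiableAt_riemannZeta hne).const_mul _).add (hH.differentiableAt (hU.mem_nhds hs)))
    · filter_upwards [isOpen_ne.mem_nhds hne] with z hz
      exact Function.update_of_ne hz _ _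
  have hcont : ContinuousAt G 1 := by
    rw [continuousAt_update_same]
    have h1 := (riemannZeta_residue_one.const_mul (κ : ℂ))
    have h2 : Tendsto (fun s : ℂ => (s - 1) * ∑' n, F n s) (𝓝[≠] 1) (𝓝 0) := by
      have hc : ContinuousAt (fun s : ℂ => (s - 1) * ∑' n, F n s) 1 :=
        (continuousAt_id.sub continuousAt_const).mul (hH.differentiableAt (hU.mem_nhds h1U)).continuousAt
      have := hc.tendsto.mono_left (nhdsWithin_le_nhds (s := {(1 : ℂ)}ᶜ))
      simpa using this
    have := h1.add h2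
    rw [mul_one, add_zero] at this
    refine this.congr fun s => ?_
    simp only [G₀]; ring
  refine ⟨δ, hδ0, hδ1, G, fun s hs => ?_, ?_, fun s hs => ?_⟩
  · by_cases hne : s = 1
    · subst hne
      refine (Complex.analyticAt_of_differentiable_on_punctured_nhds_of_continuousAt ?_
        hcont).differentiableAt.differentiableWithinAt
      filter_upwards [mem_nhdsWithin_of_mem_nhds (hU.mem_nhds h1U), self_mem_nhdsWithin] with z hz hz'
      exact hdne z hz hz'
    · exact (hdne s hs hne).differentiableWithinAt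
  · simp only [G, Function.update_self]
    exact Complex.ofReal_ne_zero.2 (dedekindZeta_residue_ne_zero K)
  · have hne : s ≠ 1 := fun h => by rw [h] at hs; simp at hs
    simp only [G, Function.update_of_ne hne, G₀]
    rw [mul_div_cancel_left₀ _ (sub_ne_zero.2 hne), hLb s hs]

end Groth.Agent.H27Dedekind
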